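import Cfsg.Agent.H882.A7D.Quat
import Cfsg.Agent.H935.A7Q.Cross

/-!
# `2.A₇` in dimension twelve, characteristic not two or three: the two cases (helper882)

`Rp π g z ρ` : `ρ` a faithful irreducible representation of the double cover `D` of `A₇`.
`Rp.cases` : `dim V = 12` : the multiplicities of the eigenvalues `1, ω, ω²` are
`(0, 6, 6)` for `3A` and `(6, 3, 3)` for `3B`, or `(4, 4, 4)` and `(2, 5, 5)`.
-/

set_option autoImplicit false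
set_option linter.unusedSectionVars false

namespace Cfsg.Agent.H882.A7D

open Module Equiv.Perm Cfsg.Agent.H637.A7Grp Cfsg.Agent.H637.A7Cov Cfsg.Agent.H935.A7Q

/-- the setting -/
structure Rp {K V D : Type*} [Field K] [AddCommGroup V] [Module K V] [Group D] (π : D →* alternatingGroup (Fin 7))
    (g : Fin 5 → D) (z : D) (ρ : D →* Module.End K V) : Prop where
  good : Good π g z
  rz : ∀ v, ρ z v = -v
  irr : ∀ U : Submodule K V, (∀ d, ∀ v ∈ U, ρ d v ∈ U) → U = ⊥ ∨ U = ⊤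
  two : (2 : K) ≠ 0
  three : (3 : K) ≠ 0

/-- quaternion elements -/
structure Qe {D : Type*} [Group D] (z a b i j k : D) : Prop where
  ii : i * i = z
  jj : j * j = z
  kk : k * k = z
  ij : i * j = k
  jk : j * k = i
  ki : k * i = j
  bi : b * i = j * b
  bj : b * j = k * b
  bk : b * k = i * b
  ai : i * a = a * i
  aj : j * a = a * j
  ak : k * a = a * k

section group

variable {D : Type*} [Group D] {π : D →* alternatingGroup (Fin 7)} {g : Fin 5 → D} {z : D}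

theorem qq_rel : qq * (bb * qq * bb⁻¹) = bb * (bb * qq * bb⁻¹) * bb⁻¹ := by decide +kernel
theorem qq_two : qq * qq = 1 := by decide +kernel
theorem qq_one : qq ≠ 1 := by decide +kernel

theorem Qe.of {a b i : D} (hb : b ^ 3 = 1) (h1 : i * i = z) (hab : a * b = b * a) (hz : ∀ d, z * d = d * z)
    (h2 : i * (b * i * b⁻¹) = b * (b * i * b⁻¹) * b⁻¹) (h3 : i * a = a * i) :
    Qe z a b i (b * i * b⁻¹) (b * (b * i * b⁻¹) * b⁻¹) := by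
  have hb' : b * b * b = 1 := by rw [← hb, pow_succ, pow_two]
  have cz : ∀ c : D, c * z * c⁻¹ = z := fun c => by rw [← hz, mul_inv_cancel_right]
  have e3 : b * (b * (b * i * b⁻¹) * b⁻¹) * b⁻¹ = i := by
    have : b * (b * (b * i * b⁻¹) * b⁻¹) * b⁻¹ = (b * b * b) * i * (b * b * b)⁻¹ := by group
    rw [this, hb', one_mul, inv_one, mul_one]
  have hjj : b * i * b⁻¹ * (b * i * b⁻¹) = z := by
    calc b * i * b⁻¹ * (b * i * b⁻¹) = b * (i * i) * b⁻¹ := by group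
      _ = z := by rw [h1, cz]
  have hcom : ∀ x : D, x * a = a * x → b * x * b⁻¹ * a = a * (b * x * b⁻¹) := by
    intro x hx
    have hb2 : b⁻¹ * a = a * b⁻¹ := by
      rw [inv_mul_eq_iff_eq_mul, ← mul_assoc, ← hab, mul_inv_cancel_right]
    rw [mul_assoc _ b⁻¹ a, hb2, ← mul_assoc, mul_assoc b x a, hx, ← mul_assoc b a x, ← hab]
    group
  have hjk : b * i * b⁻¹ * (b * (b * i * b⁻¹) * b⁻¹) = i := by
    calc b * i * b⁻¹ * (b * (b * i * b⁻¹) * b⁻¹) = b * (i * (b * i * b⁻¹)) * b⁻¹ := by group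
      _ = i := by rw [h2, e3]
  have hki : b * (b * i * b⁻¹) * b⁻¹ * i = b * i * b⁻¹ := by
    calc b * (b * i * b⁻¹) * b⁻¹ * i = b * (b * i * b⁻¹) * b⁻¹ * (b * (b * (b * i * b⁻¹) * b⁻¹) * b⁻¹) := by rw [e3]
      _ = b * (b * i * b⁻¹ * (b * (b * i * b⁻¹) * b⁻¹)) * b⁻¹ := by group
      _ = b * i * b⁻¹ := by rw [hjk]
  refine ⟨h1, hjj, ?_, h2, hjk, hki, by group, by group, ?_, h3, hcom _ h3, hcom _ (hcom _ h3)⟩
  · calc b * (b * i * b⁻¹) * b⁻¹ * (b * (b * i * b⁻¹) * b⁻¹) = b * (b * i * b⁻¹ * (b * i * b⁻¹)) * b⁻¹ := by group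
      _ = z := by rw [hjj, cz]
  · have e4 : b * (b * (b * i * b⁻¹) * b⁻¹) = b * (b * (b * i * b⁻¹) * b⁻¹) * b⁻¹ * b := by group
    rw [e4, e3]

theorem exists_quat (H : Good π g z) {b : D} (hb : b ^ 3 = 1) (pb : π b = bb) (hab : g 0 * b = b * g 0) :
    ∃ i j k : D, Qe z (g 0) b i j k := by
  obtain ⟨q, hq⟩ := H.surj qq
  have e1 : q * g 0 * q⁻¹ = g 0 := by
    refine eq_odd H (n := 3) ⟨1, rfl⟩ ?_ ?_ (H.cube 0)
    · rw [map_mul, map_mul, map_inv, H.gP, hq, qq_s, mul_inv_cancel_right]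
    · rw [conj_pow, H.cube, mul_one, mul_inv_cancel]
  have hqa : q * g 0 = g 0 * q := mul_inv_eq_iff_eq_mul.1 e1
  have hqq : q * q = z := H.sq_eq (by rw [hq]; exact qq_two) (by rw [hq]; exact qq_one)
  rcases H.eq_or (a := q * (b * q * b⁻¹)) (b := b * (b * q * b⁻¹) * b⁻¹) (by
    simp only [map_mul, map_inv, hq, pb]
    exact qq_rel) with h | h
  · exact ⟨_, _, _, Qe.of hb hqq hab H.zc h hqa⟩
  · refine ⟨_, _, _, Qe.of (i := z * q) hb ?_ hab H.zc ?_ ?_⟩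
    · rw [mul_assoc, ← mul_assoc q, ← H.zc, mul_assoc z q q, hqq, H.zz, mul_one]
    · have e2 : b * (z * q) * b⁻¹ = z * (b * q * b⁻¹) := by
        rw [← mul_assoc, ← H.zc]; group
      have e3 : b * (z * (b * q * b⁻¹)) * b⁻¹ = z * (b * (b * q * b⁻¹) * b⁻¹) := by
        rw [← mul_assoc, ← H.zc]; group
      rw [e2, e3, mul_assoc, ← mul_assoc q z, ← H.zc, mul_assoc z q, h, ← mul_assoc, ← mul_assoc, H.zz, one_mul]
    · rw [mul_assoc, hqa, ← mul_assoc, H.zc, mul_assoc]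

end group

variable {K V D : Type*} [Field K] [AddCommGroup V] [Module K V] [Group D] {π : D →* alternatingGroup (Fin 7)}
  {g : Fin 5 → D} {z : D} {ρ : D →* Module.End K V}

theorem Qe.toQt {a b i j k : D} (h : Qe z a b i j k) (hz : ∀ v, ρ z v = -v) : Qt (ρ i) (ρ j) (ρ k) (ρ b) := by
  have e : ρ z = -1 := by
    ext v
    rw [hz]; rfl
  refine ⟨?_, ?_, ?_, ?_, ?_, ?_, ?_, ?_, ?_⟩
  · rw [← map_mul, h.ii, e]
  · rw [← map_mul, h.jj, e]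
  · rw [← map_mul, h.kk, e]
  · rw [← map_mul, h.ij]
  · rw [← map_mul, h.jk]
  · rw [← map_mul, h.ki]
  · rw [← map_mul, h.bi, map_mul]
  · rw [← map_mul, h.bj, map_mul]
  · rw [← map_mul, h.bk, map_mul]

/-- the multiplicities of `E = ⟨a, b⟩` -/
noncomputable def nn (ρ : D →* Module.End K V) (a b : D) (μ ν : K) : ℕ := finrank K (Eg (ρ a) μ ⊓ Eg (ρ b) ν : Submodule K V)

/-- commuting elements preserve eigenspaces -/
theorem mem_of_comm {x a : D} (h : x * a = a * x) {μ : K} {v : V} (hv : v ∈ Eg (ρ a) μ) : ρ x v ∈ Eg (ρ a) μ := by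
  rw [mem_Eg] at hv ⊢
  rw [← rho_mul, ← h, rho_mul, hv, map_smul]

theorem rho_cube {x : D} (hx : x ^ 3 = 1) (v : V) : ρ x (ρ x (ρ x v)) = v := by
  have h1 : x * x * x = 1 := by rw [← hx, pow_succ, pow_two]
  rw [← rho_mul, ← rho_mul, h1, map_one]
  rfl

/-- decomposition along an element of order three -/
theorem dec_three [FiniteDimensional K V] (h3 : (3 : K) ≠ 0) {ω : K} (hω : ω ^ 2 + ω + 1 = 0) {x : D} (hx : x ^ 3 = 1)
    (U : Submodule K V) (hU : ∀ v ∈ U, ρ x v ∈ U) :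
    finrank K U = finrank K (U ⊓ Eg (ρ x) 1 : Submodule K V) + finrank K (U ⊓ Eg (ρ x) ω : Submodule K V) +
      finrank K (U ⊓ Eg (ρ x) (ω ^ 2) : Submodule K V) := by
  have h1 := (decomp (ρ x) (![1, ω, ω ^ 2] : Fin 3 → K) (mu_inj hω h3) Finset.univ U hU
    (fun v _ => aeval_cube hω (rho_cube hx) v)).2
  rw [Fin.sum_univ_three] at h1
  exact h1

/-- the steps `(μ, ν) → (ν⁻¹, μ)` -/
theorem step_le [FiniteDimensional K V] {a b σ : D} (has : a * σ = σ * b ^ 2) (hbs : b * σ = σ * a) {μ ν ν' : K}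
    (hν : ν ^ 2 = ν') : nn ρ a b μ ν ≤ nn ρ a b ν' μ := by
  refine finrank_le_map (ρ σ) (fun _ _ h0 => rho_inj σ h0) ?_
  rintro v ⟨h1, h2⟩
  have h1' := mem_Eg.1 h1
  have h2' := mem_Eg.1 h2
  refine ⟨?_, ?_⟩
  · change ρ σ v ∈ Eg (ρ a) ν'
    rw [mem_Eg, ← rho_mul, has, rho_mul, pow_two, rho_mul, h2', map_smul, h2', map_smul, map_smul, smul_smul, ← pow_two,
      hν]
  · change ρ σ v ∈ Eg (ρ b) μ
    rw [mem_Eg, ← rho_mul, hbs, rho_mul, h1', map_smul]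

/-- **The two cases.** -/
theorem Rp.two_cases (C : Rp π g z ρ) [FiniteDimensional K V] (h12 : finrank K V = 12) {ω : K}
    (hω : ω ^ 2 + ω + 1 = 0) : ∃ b : D, b ^ 3 = 1 ∧ π b = bb ∧ g 0 * b = b * g 0 ∧
    nn ρ (g 0) b 1 1 = 0 ∧
    ((nn ρ (g 0) b 1 ω = 0 ∧ nn ρ (g 0) b 1 (ω ^ 2) = 0 ∧ nn ρ (g 0) b ω 1 = 0 ∧ nn ρ (g 0) b (ω ^ 2) 1 = 0 ∧
      nn ρ (g 0) b ω ω = 3 ∧ nn ρ (g 0) b ω (ω ^ 2) = 3 ∧ nn ρ (g 0) b (ω ^ 2) ω = 3 ∧
      nn ρ (g 0) b (ω ^ 2) (ω ^ 2) = 3) ∨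
     (nn ρ (g 0) b 1 ω = 2 ∧ nn ρ (g 0) b 1 (ω ^ 2) = 2 ∧ nn ρ (g 0) b ω 1 = 2 ∧ nn ρ (g 0) b (ω ^ 2) 1 = 2 ∧
      nn ρ (g 0) b ω ω = 1 ∧ nn ρ (g 0) b ω (ω ^ 2) = 1 ∧ nn ρ (g 0) b (ω ^ 2) ω = 1 ∧
      nn ρ (g 0) b (ω ^ 2) (ω ^ 2) = 1)) := by
  obtain ⟨b, σ, q, E, -, -⟩ := exists_el C.good
  obtain ⟨i, j, k, Q⟩ := exists_quat C.good E.b3 E.pb E.ab
  have hq := Q.toQt C.rz
  have hc := cube_one hω
  have hω4 : (ω ^ 2) ^ 2 = ω := by linear_combination ω * hc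
  have one2 : (1 : K) ^ 2 = 1 := one_pow 2
  have s1 := step_le (ρ := ρ) E.as E.bs (μ := 1) (ν := ω) (ν' := ω ^ 2) rfl
  have s2 := step_le (ρ := ρ) E.as E.bs (μ := ω ^ 2) (ν := 1) (ν' := 1) one2
  have s3 := step_le (ρ := ρ) E.as E.bs (μ := 1) (ν := ω ^ 2) (ν' := ω) hω4
  have s4 := step_le (ρ := ρ) E.as E.bs (μ := ω) (ν := 1) (ν' := 1) one2
  have t1 := step_le (ρ := ρ) E.as E.bs (μ := ω) (ν := ω) (ν' := ω ^ 2) rfl
  have t2 := step_le (ρ := ρ) E.as E.bs (μ := ω ^ 2) (ν := ω) (ν' := ω ^ 2) rfl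
  have t3 := step_le (ρ := ρ) E.as E.bs (μ := ω ^ 2) (ν := ω ^ 2) (ν' := ω) hω4
  have t4 := step_le (ρ := ρ) E.as E.bs (μ := ω) (ν := ω ^ 2) (ν' := ω) hω4
  have m : ∀ μ : K, ∃ x y w : ℕ, nn ρ (g 0) b μ 1 = x + y ∧ nn ρ (g 0) b μ ω = y + w ∧
      nn ρ (g 0) b μ (ω ^ 2) = w + x := fun μ => hq.mult hω C.two C.three (Eg (ρ (g 0)) μ)
    (fun v hv => mem_of_comm Q.ai hv) (fun v hv => mem_of_comm Q.aj hv) (fun v hv => mem_of_comm Q.ak hv)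
  obtain ⟨x, y, w, m1, m2, m3⟩ := m 1
  obtain ⟨x', y', w', m1', m2', m3'⟩ := m ω
  have d0 := dec_three (ρ := ρ) C.three hω E.a3 ⊤ (fun _ _ => Submodule.mem_top)
  rw [top_inf_eq, top_inf_eq, top_inf_eq, finrank_top, h12] at d0
  have dE : ∀ μ : K, finrank K (Eg (ρ (g 0)) μ) = nn ρ (g 0) b μ 1 + nn ρ (g 0) b μ ω + nn ρ (g 0) b μ (ω ^ 2) :=
    fun μ => dec_three C.three hω E.b3 _ (fun v hv => mem_of_comm E.ab.symm hv)
  rw [dE, dE, dE] at d0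
  have q1 : nn ρ (g 0) b 1 ω = nn ρ (g 0) b 1 (ω ^ 2) := by omega
  have q2 : nn ρ (g 0) b ω 1 = nn ρ (g 0) b 1 (ω ^ 2) := by omega
  have q3 : nn ρ (g 0) b (ω ^ 2) 1 = nn ρ (g 0) b 1 (ω ^ 2) := by omega
  have q4 : nn ρ (g 0) b ω ω = nn ρ (g 0) b ω (ω ^ 2) := by omega
  have q5 : nn ρ (g 0) b (ω ^ 2) ω = nn ρ (g 0) b ω (ω ^ 2) := by omega
  have q6 : nn ρ (g 0) b (ω ^ 2) (ω ^ 2) = nn ρ (g 0) b ω (ω ^ 2) := by omega
  clear s1 s2 s3 s4 t1 t2 t3 t4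
  have hxy : x = y := by omega
  have hxy' : x' = y' := by omega
  subst hxy hxy'
  have hx1 : x' = 0 ∨ x' = 1 := by omega
  refine ⟨b, E.b3, E.pb, E.ab, ?_, ?_⟩
  · omega
  · rcases hx1 with rfl | rfl
    · left
      refine ⟨?_, ?_, ?_, ?_, ?_, ?_, ?_, ?_⟩ <;> omega
    · right
      refine ⟨?_, ?_, ?_, ?_, ?_, ?_, ?_, ?_⟩ <;> omega

/-- the eigenspaces of `a * b` -/
theorem inf_eq {a b : D} (hab : a * b = b * a) {β μ κ : K} (hμ : μ ≠ 0) (h : μ * κ = β) :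
    Eg (ρ (a * b)) β ⊓ Eg (ρ a) μ = Eg (ρ a) μ ⊓ Eg (ρ b) κ := by
  ext v
  constructor
  · rintro ⟨h1, h2⟩
    refine ⟨h2, ?_⟩
    change v ∈ Eg (ρ b) κ
    have h1' := mem_Eg.1 h1
    have h2' := mem_Eg.1 h2
    rw [hab, rho_mul, h2', map_smul, ← h, mul_smul] at h1'
    rw [mem_Eg]
    exact smul_right_injective V hμ h1'
  · rintro ⟨h1, h2⟩
    refine ⟨?_, h1⟩
    change v ∈ Eg (ρ (a * b)) β
    have h1' := mem_Eg.1 h1
    have h2' := mem_Eg.1 h2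
    rw [mem_Eg, rho_mul, h2', map_smul, h1', smul_smul, mul_comm, h]

/-- **The two cases, multiplicities of elements of order three.** -/
theorem Rp.cases (C : Rp π g z ρ) [FiniteDimensional K V] (h12 : finrank K V = 12) {ω : K}
    (hω : ω ^ 2 + ω + 1 = 0) : ∃ b : D, b ^ 3 = 1 ∧ π b = bb ∧ g 0 * b = b * g 0 ∧
    ((Eg (ρ (g 0)) (1 : K) = ⊥ ∧ finrank K (Eg (ρ (g 0 * b)) (1 : K)) = 6 ∧ finrank K (Eg (ρ (g 0 * b)) ω) = 3 ∧
      finrank K (Eg (ρ (g 0 * b)) (ω ^ 2)) = 3) ∨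
     (finrank K (Eg (ρ (g 0)) (1 : K)) = 4 ∧ finrank K (Eg (ρ (g 0)) ω) = 4 ∧ finrank K (Eg (ρ (g 0)) (ω ^ 2)) = 4 ∧
      finrank K (Eg (ρ (g 0 * b)) (1 : K)) = 2 ∧ finrank K (Eg (ρ (g 0 * b)) ω) = 5 ∧
      finrank K (Eg (ρ (g 0 * b)) (ω ^ 2)) = 5)) := by
  obtain ⟨b, hb, pb, hab, h0, h⟩ := C.two_cases h12 hω
  have hc := cube_one hω
  have hω0 : ω ≠ 0 := by
    rintro rfl
    norm_num at hω
  have hω4 : ω ^ 2 * ω ^ 2 = ω := by linear_combination ω * hc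
  have h12' : ω * ω ^ 2 = 1 := by rw [← hc]; ring
  have h21 : ω ^ 2 * ω = 1 := by rw [← hc]; ring
  have h11 : ω * ω = ω ^ 2 := by ring
  have hda : ∀ β : K, finrank K (Eg (ρ (g 0 * b)) β) = finrank K (Eg (ρ (g 0 * b)) β ⊓ Eg (ρ (g 0)) 1 : Submodule K V) +
      finrank K (Eg (ρ (g 0 * b)) β ⊓ Eg (ρ (g 0)) ω : Submodule K V) +
      finrank K (Eg (ρ (g 0 * b)) β ⊓ Eg (ρ (g 0)) (ω ^ 2) : Submodule K V) := fun β =>
    dec_three C.three hω (C.good.cube 0) _ (fun v hv => mem_of_comm (by rw [mul_assoc, hab]) hv)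
  have dE : ∀ μ : K, finrank K (Eg (ρ (g 0)) μ) = nn ρ (g 0) b μ 1 + nn ρ (g 0) b μ ω + nn ρ (g 0) b μ (ω ^ 2) :=
    fun μ => dec_three C.three hω hb _ (fun v hv => mem_of_comm hab.symm hv)
  have f1 := hda 1
  have f2 := hda ω
  have f3 := hda (ω ^ 2)
  rw [inf_eq hab one_ne_zero (one_mul 1), inf_eq hab hω0 h12', inf_eq hab (pow_ne_zero 2 hω0) h21] at f1
  rw [inf_eq hab one_ne_zero (one_mul ω), inf_eq hab hω0 (mul_one ω), inf_eq hab (pow_ne_zero 2 hω0) hω4] at f2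
  rw [inf_eq hab one_ne_zero (one_mul (ω ^ 2)), inf_eq hab hω0 h11, inf_eq hab (pow_ne_zero 2 hω0) (mul_one (ω ^ 2))] at f3
  have e1 := dE 1
  have e2 := dE ω
  have e3 := dE (ω ^ 2)
  unfold nn at h0 h e1 e2 e3
  refine ⟨b, hb, pb, hab, ?_⟩
  rcases h with h | h
  · left
    refine ⟨?_, ?_, ?_, ?_⟩
    · rw [← Submodule.finrank_eq_zero (R := K)]
      omega
    · omega
    · omega
    · omega
  · right
    refine ⟨?_, ?_, ?_, ?_, ?_, ?_⟩ <;> omega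

end Cfsg.Agent.H882.A7D
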