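import Cfsg.Agent.H935.A7Q.Lin

/-!
# Representations of `SL₂(3)` and eigenvalue multiplicities (helper882)

Operators `i j k b` with the quaternion relations (`i² = j² = k² = -1`, `ij = k`, `jk = i`, `ki = j`), `b i = j b`,
`b j = k b`, `b k = i b`, `b³ = 1` on a space over a field with a primitive cube root of unity `ω`:
the multiplicities of the eigenvalues `1, ω, ω²` of `b` on an invariant subspace are `x + y, y + w, w + x`.
-/

set_option autoImplicit false
set_option linter.unusedSectionVars false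

namespace Cfsg.Agent.H882.A7D

open Module Cfsg.Agent.H935.A7Q

variable {K V : Type*} [Field K] [AddCommGroup V] [Module K V]

/-- operators -/
structure Qt (i j k b : Module.End K V) : Prop where
  ii : i * i = -1
  jj : j * j = -1
  kk : k * k = -1
  ij : i * j = k
  jk : j * k = i
  ki : k * i = j
  bi : b * i = j * b
  bj : b * j = k * b
  bk : b * k = i * b

section

variable {i j k b : Module.End K V} (h : Qt i j k b)
include h

theorem Qt.ji : j * i = -k := by rw [← h.jk, ← mul_assoc, h.jj, neg_one_mul]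
theorem Qt.kj : k * j = -i := by rw [← h.ki, ← mul_assoc, h.kk, neg_one_mul]
theorem Qt.ik : i * k = -j := by rw [← h.ij, ← mul_assoc, h.ii, neg_one_mul]

theorem Qt.ss : (i + j + k) * (i + j + k) = -3 := by
  have e : (i + j + k) * (i + j + k) = i * i + j * j + k * k + (i * j + j * i) + (j * k + k * j) + (k * i + i * k) := by
    noncomm_ring
  rw [e, h.ii, h.jj, h.kk, h.ij, h.ji, h.jk, h.kj, h.ki, h.ik]
  norm_num

theorem Qt.bs : b * (i + j + k) = (i + j + k) * b := by
  rw [mul_add, mul_add, h.bi, h.bj, h.bk, add_mul, add_mul]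
  abel

variable {ω : K} (hω : ω ^ 2 + ω + 1 = 0)
include hω

omit h in
theorem cube_one : ω ^ 3 = 1 := by linear_combination (ω - 1) * hω

/-- `s` anticommutes with `e` -/
theorem Qt.se : (i + j + k) * (i + ω • j + ω ^ 2 • k) = -((i + ω • j + ω ^ 2 • k) * (i + j + k)) := by
  have e1 : (i + j + k) * (i + ω • j + ω ^ 2 • k) = i * i + ω • (j * j) + ω ^ 2 • (k * k) + (ω • (i * j) + j * i) +
      (ω ^ 2 • (j * k) + ω • (k * j)) + (k * i + ω ^ 2 • (i * k)) := by
    simp only [mul_add, add_mul, mul_smul_comm, smul_add]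
    abel
  have e2 : (i + ω • j + ω ^ 2 • k) * (i + j + k) = i * i + ω • (j * j) + ω ^ 2 • (k * k) + (i * j + ω • (j * i)) +
      (ω • (j * k) + ω ^ 2 • (k * j)) + (ω ^ 2 • (k * i) + i * k) := by
    simp only [mul_add, add_mul, smul_mul_assoc]
    abel
  rw [e1, e2, h.ii, h.jj, h.kk, h.ij, h.ji, h.jk, h.kj, h.ki, h.ik]
  have h1 : (1 + ω + ω ^ 2) • (1 : Module.End K V) = 0 := by
    rw [show 1 + ω + ω ^ 2 = ω ^ 2 + ω + 1 by ring, hω, zero_smul]
  have h2 : -1 + ω • (-1 : Module.End K V) + ω ^ 2 • (-1 : Module.End K V) = 0 := by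
    rw [smul_neg, smul_neg, ← neg_add, ← neg_add, neg_eq_zero, ← h1, add_smul, add_smul, one_smul]
  rw [h2]
  module

/-- `e₂ e₁ = -3 + (ω - ω²) s` -/
theorem Qt.ee : (i + ω ^ 2 • j + ω • k) * (i + ω • j + ω ^ 2 • k) = -3 + (ω - ω ^ 2) • (i + j + k) := by
  have hc := cube_one hω
  have e1 : (i + ω ^ 2 • j + ω • k) * (i + ω • j + ω ^ 2 • k) = i * i + (ω ^ 2 * ω) • (j * j) + (ω * ω ^ 2) • (k * k) +
      (ω • (i * j) + ω ^ 2 • (j * i)) + ((ω ^ 2 * ω ^ 2) • (j * k) + (ω * ω) • (k * j)) +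
      (ω • (k * i) + ω ^ 2 • (i * k)) := by
    simp only [mul_add, add_mul, mul_smul_comm, smul_mul_assoc, smul_add, smul_smul]
    module
  have h1 : ω ^ 2 * ω = 1 := by rw [← hc]; ring
  have h2 : ω * ω ^ 2 = 1 := by rw [← hc]; ring
  have h3 : ω ^ 2 * ω ^ 2 = ω := by linear_combination ω * hc
  have h4 : ω * ω = ω ^ 2 := by ring
  rw [e1, h.ii, h.jj, h.kk, h.ij, h.ji, h.jk, h.kj, h.ki, h.ik, h1, h2, h3, h4]
  have h5 : (-3 : Module.End K V) = (-3 : K) • (1 : Module.End K V) := by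
    rw [neg_smul, ← Algebra.algebraMap_eq_smul_one, map_ofNat]
  rw [h5]
  module

theorem Qt.be : b * (i + ω • j + ω ^ 2 • k) = ω ^ 2 • ((i + ω • j + ω ^ 2 • k) * b) := by
  have hc := cube_one hω
  have h3 : ω ^ 2 * ω ^ 2 = ω := by linear_combination ω * hc
  have h1 : ω ^ 2 * ω = 1 := by rw [← hc]; ring
  rw [mul_add, mul_add, mul_smul_comm, mul_smul_comm, h.bi, h.bj, h.bk, add_mul, add_mul, smul_mul_assoc,
    smul_mul_assoc, smul_add, smul_add, smul_smul, smul_smul, h1, h3, one_smul]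
  abel

end

section

variable {i j k b a : Module.End K V} (h : Qt i j k b) {ω : K} (hω : ω ^ 2 + ω + 1 = 0)

/-- two eigenvalues -/
theorem two_dec [FiniteDimensional K V] {s : Module.End K V} {θ : K} (hs : s * s = (θ ^ 2) • 1) (h0 : θ ≠ -θ)
    (U : Submodule K V) (hU : ∀ v ∈ U, s v ∈ U) :
    finrank K U = finrank K (U ⊓ Eg s θ : Submodule K V) + finrank K (U ⊓ Eg s (-θ) : Submodule K V) := by
  have hinj : Function.Injective (![θ, -θ] : Fin 2 → K) := by
    intro x y hxy
    fin_cases x <;> fin_cases y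
    · rfl
    · exact absurd hxy h0
    · exact absurd hxy.symm h0
    · rfl
  have h1 := (decomp s ![θ, -θ] hinj Finset.univ U hU (fun v _ => by
    have h2 : (∏ i : Fin 2, (Polynomial.X - Polynomial.C ((![θ, -θ] : Fin 2 → K) i))) =
        Polynomial.X * Polynomial.X - Polynomial.C (θ ^ 2) := by
      rw [Fin.prod_univ_two]
      simp only [Matrix.cons_val_zero, Matrix.cons_val_one]
      rw [map_neg, map_pow]
      ring
    rw [h2, map_sub, map_mul, Polynomial.aeval_X, Polynomial.aeval_C, hs, LinearMap.sub_apply, LinearMap.smul_apply,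
      Module.algebraMap_end_apply, Module.End.one_apply, sub_self])).2
  rw [Fin.sum_univ_two] at h1
  exact h1

include h hω

/-- **Multiplicities for `SL₂(3)`.** -/
theorem Qt.mult [FiniteDimensional K V] (h2 : (2 : K) ≠ 0) (h3 : (3 : K) ≠ 0) (U : Submodule K V)
    (hi : ∀ v ∈ U, i v ∈ U) (hj : ∀ v ∈ U, j v ∈ U) (hk : ∀ v ∈ U, k v ∈ U) :
    ∃ x y w : ℕ, finrank K (U ⊓ Eg b 1 : Submodule K V) = x + y ∧ finrank K (U ⊓ Eg b ω : Submodule K V) = y + w ∧
      finrank K (U ⊓ Eg b (ω ^ 2) : Submodule K V) = w + x := by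
  have hc := cube_one hω
  set s : Module.End K V := i + j + k with hs
  set θ : K := ω - ω ^ 2 with hθ
  have hθ2 : θ ^ 2 = -3 := by
    rw [hθ]
    linear_combination (ω ^ 2 - 3 * ω + 3) * hω
  have hθ0 : θ ≠ 0 := by
    intro h0
    rw [h0] at hθ2
    apply h3
    linear_combination hθ2
  have hθn : θ ≠ -θ := by
    intro h0
    have : (2 : K) * θ = 0 := by linear_combination h0
    rcases mul_eq_zero.1 this with h1 | h1
    · exact h2 h1
    · exact hθ0 h1
  have hss : s * s = (θ ^ 2) • 1 := by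
    rw [h.ss, hθ2, neg_smul, ← Algebra.algebraMap_eq_smul_one, map_ofNat]
  have hsU : ∀ v ∈ U, s v ∈ U := fun v hv => U.add_mem (U.add_mem (hi v hv) (hj v hv)) (hk v hv)
  set e : Module.End K V := i + ω • j + ω ^ 2 • k with he
  set e' : Module.End K V := i + ω ^ 2 • j + ω • k with he'
  have hω' : (ω ^ 2) ^ 2 + ω ^ 2 + 1 = 0 := by linear_combination (ω ^ 2 - ω + 1) * hω
  have hω4 : (ω ^ 2) ^ 2 = ω := by linear_combination ω * hc
  have heU : ∀ v ∈ U, e v ∈ U := fun v hv =>
    U.add_mem (U.add_mem (hi v hv) (U.smul_mem _ (hj v hv))) (U.smul_mem _ (hk v hv))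
  have heU' : ∀ v ∈ U, e' v ∈ U := fun v hv =>
    U.add_mem (U.add_mem (hi v hv) (U.smul_mem _ (hj v hv))) (U.smul_mem _ (hk v hv))
  have hse := h.se hω
  have hse' := h.se hω'
  have hbe := h.be hω
  have hbe' := h.be hω'
  have hee := h.ee hω
  have hee' := h.ee hω'
  rw [hω4] at hse' hbe' hee'
  -- the maps
  have ap : ∀ {A B : Module.End K V}, A = B → ∀ v, A v = B v := fun h v => by rw [h]
  have m6 : (-3 : K) + θ * θ ≠ 0 := by
    have : (-3 : K) + θ * θ = -(2 * 3) := by linear_combination hθ2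
    rw [this, neg_ne_zero]
    exact mul_ne_zero h2 h3
  have d1 : ∀ β : K, finrank K (U ⊓ Eg b β ⊓ Eg s θ : Submodule K V) ≤
      finrank K (U ⊓ Eg b (ω ^ 2 * β) ⊓ Eg s (-θ) : Submodule K V) := by
    intro β
    refine finrank_le_map e ?_ ?_
    · rintro v ⟨-, hv⟩ h0
      have h4 := ap hee v
      rw [Module.End.mul_apply] at h4
      change e' (e v) = _ at h4
      rw [h0, map_zero, LinearMap.add_apply, LinearMap.smul_apply] at h4
      change v ∈ Eg s θ at hv
      rw [mem_Eg] at hv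
      change (0 : V) = (-3 : Module.End K V) v + (ω - ω ^ 2) • s v at h4
      rw [hv] at h4
      have h5 : (-3 : Module.End K V) v = (-3 : K) • v := by
        have : (-3 : Module.End K V) = (-3 : K) • (1 : Module.End K V) := by
          rw [neg_smul, ← Algebra.algebraMap_eq_smul_one, map_ofNat]
        rw [this]; rfl
      rw [h5, smul_smul, ← add_smul] at h4
      exact (smul_eq_zero.1 h4.symm).resolve_left m6
    · rintro v ⟨⟨hv1, hv2⟩, hv3⟩
      refine ⟨⟨heU v hv1, ?_⟩, ?_⟩
      · change e v ∈ Eg b _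
        change v ∈ Eg b β at hv2
        rw [mem_Eg] at hv2 ⊢
        have h4 := ap hbe v
        rw [Module.End.mul_apply, LinearMap.smul_apply, Module.End.mul_apply, hv2, map_smul, smul_smul] at h4
        exact h4
      · change e v ∈ Eg s (-θ)
        change v ∈ Eg s θ at hv3
        rw [mem_Eg] at hv3 ⊢
        have h4 := ap hse v
        rw [Module.End.mul_apply, LinearMap.neg_apply, Module.End.mul_apply] at h4
        change s (e v) = -(e (s v)) at h4
        rw [h4, hv3, map_smul, neg_smul]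
  have d2 : ∀ β : K, finrank K (U ⊓ Eg b β ⊓ Eg s (-θ) : Submodule K V) ≤
      finrank K (U ⊓ Eg b (ω * β) ⊓ Eg s θ : Submodule K V) := by
    intro β
    refine finrank_le_map e' ?_ ?_
    · rintro v ⟨-, hv⟩ h0
      have h4 := ap hee' v
      rw [Module.End.mul_apply] at h4
      change e (e' v) = _ at h4
      rw [h0, map_zero, LinearMap.add_apply, LinearMap.smul_apply] at h4
      change v ∈ Eg s (-θ) at hv
      rw [mem_Eg] at hv
      change (0 : V) = (-3 : Module.End K V) v + (ω ^ 2 - ω) • s v at h4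
      rw [hv] at h4
      have h5 : (-3 : Module.End K V) v = (-3 : K) • v := by
        have : (-3 : Module.End K V) = (-3 : K) • (1 : Module.End K V) := by
          rw [neg_smul, ← Algebra.algebraMap_eq_smul_one, map_ofNat]
        rw [this]; rfl
      rw [h5, smul_smul, ← add_smul, show (ω ^ 2 - ω) * -θ = θ * θ by rw [hθ]; ring] at h4
      exact (smul_eq_zero.1 h4.symm).resolve_left m6
    · rintro v ⟨⟨hv1, hv2⟩, hv3⟩
      refine ⟨⟨heU' v hv1, ?_⟩, ?_⟩
      · change e' v ∈ Eg b _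
        change v ∈ Eg b β at hv2
        rw [mem_Eg] at hv2 ⊢
        have h4 := ap hbe' v
        rw [Module.End.mul_apply, LinearMap.smul_apply, Module.End.mul_apply, hv2, map_smul, smul_smul] at h4
        exact h4
      · change e' v ∈ Eg s θ
        change v ∈ Eg s (-θ) at hv3
        rw [mem_Eg] at hv3 ⊢
        have h4 := ap hse' v
        rw [Module.End.mul_apply, LinearMap.neg_apply, Module.End.mul_apply] at h4
        change s (e' v) = -(e' (s v)) at h4
        rw [h4, hv3, map_smul, neg_smul, neg_neg]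
  have hbs := h.bs
  have dec : ∀ β : K, finrank K (U ⊓ Eg b β : Submodule K V) = finrank K (U ⊓ Eg b β ⊓ Eg s θ : Submodule K V) +
      finrank K (U ⊓ Eg b β ⊓ Eg s (-θ) : Submodule K V) := by
    intro β
    refine two_dec hss hθn _ ?_
    rintro v ⟨hv1, hv2⟩
    refine ⟨hsU v hv1, ?_⟩
    change s v ∈ Eg b β
    change v ∈ Eg b β at hv2
    rw [mem_Eg] at hv2 ⊢
    have h4 := ap hbs v
    rw [Module.End.mul_apply, Module.End.mul_apply, hv2, map_smul] at h4
    exact h4
  have a1 := d1 1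
  have a2 := d1 ω
  have a3 := d1 (ω ^ 2)
  have b1 := d2 1
  have b2 := d2 ω
  have b3 := d2 (ω ^ 2)
  have c1 : ω ^ 2 * ω = 1 := by rw [← hc]; ring
  have c2 : ω ^ 2 * ω ^ 2 = ω := by rw [← pow_two, hω4]
  have c3 : ω * ω = ω ^ 2 := by ring
  have c4 : ω * ω ^ 2 = 1 := by rw [← hc]; ring
  rw [mul_one] at a1 b1
  rw [c1] at a2
  rw [c2] at a3
  rw [c3] at b2
  rw [c4] at b3
  refine ⟨finrank K (U ⊓ Eg b 1 ⊓ Eg s θ : Submodule K V), finrank K (U ⊓ Eg b ω ⊓ Eg s θ : Submodule K V),
    finrank K (U ⊓ Eg b (ω ^ 2) ⊓ Eg s θ : Submodule K V), ?_, ?_, ?_⟩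
  · have := dec 1
    omega
  · have := dec ω
    omega
  · have := dec (ω ^ 2)
    omega

end

end Cfsg.Agent.H882.A7D
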